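import Mathlib.GroupTheory.Sylow
import Mathlib.Tactic.Group

/-!
A real element centralised by a Sylow 2-subgroup squares to one.
-/

set_option autoImplicit false

namespace Cfsg.Agent.RealCentral

open Subgroup

variable {G : Type*} [Group G]

theorem conj_pow_odd {g x : G} (h : g * x * g⁻¹ = x⁻¹) (j : ℕ) :
    g ^ (2 * j + 1) * x * (g ^ (2 * j + 1))⁻¹ = x⁻¹ := by
  have h2 : g * x⁻¹ * g⁻¹ = x := by
    have := congrArg (·⁻¹) h
    simpa [mul_assoc] using this
  induction j with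
  | zero => simpa using h
  | succ j ih =>
    calc g ^ (2 * (j + 1) + 1) * x * (g ^ (2 * (j + 1) + 1))⁻¹
        = g * (g * (g ^ (2 * j + 1) * x * (g ^ (2 * j + 1))⁻¹) * g⁻¹) * g⁻¹ := by
          rw [show 2 * (j + 1) + 1 = 1 + 1 + (2 * j + 1) by ring, pow_add, pow_add, pow_one]; group
      _ = x⁻¹ := by rw [ih, h2, h]

/-- A real element in the centraliser of a Sylow 2-subgroup squares to one. -/
theorem sq_eq_one [Finite G] {x : G} (hx : IsConj x x⁻¹) (S : Sylow 2 G)
    (hS : x ∈ centralizer ((S : Subgroup G) : Set G)) : x ^ 2 = 1 := by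
  by_contra hx2
  obtain ⟨g, hg⟩ := isConj_iff.mp hx
  have hne : x⁻¹ ≠ x := fun h => hx2 (by rw [sq]; exact mul_eq_one_iff_eq_inv.mpr h.symm)
  have hflip : g * x⁻¹ * g⁻¹ = x := by
    have := congrArg (·⁻¹) hg
    simpa [mul_assoc] using this
  let N : Subgroup G :=
    { carrier := {y | y * x * y⁻¹ = x ∨ y * x * y⁻¹ = x⁻¹}
      one_mem' := Or.inl (by group)
      mul_mem' := by
        intro a b ha hb
        show a * b * x * (a * b)⁻¹ = x ∨ a * b * x * (a * b)⁻¹ = x⁻¹
        have e : a * b * x * (a * b)⁻¹ = a * (b * x * b⁻¹) * a⁻¹ := by group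
        have einv : a * x⁻¹ * a⁻¹ = (a * x * a⁻¹)⁻¹ := by group
        rcases hb with hb | hb <;> rcases ha with ha | ha <;> rw [e, hb]
        · exact Or.inl ha
        · exact Or.inr ha
        · exact Or.inr (by rw [einv, ha])
        · exact Or.inl (by rw [einv, ha, inv_inv])
      inv_mem' := by
        intro a ha
        show a⁻¹ * x * a⁻¹⁻¹ = x ∨ a⁻¹ * x * a⁻¹⁻¹ = x⁻¹
        have einv : a⁻¹ * x⁻¹ * a⁻¹⁻¹ = (a⁻¹ * x * a⁻¹⁻¹)⁻¹ := by group
        have e : a⁻¹ * (a * x * a⁻¹) * a⁻¹⁻¹ = x := by group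
        rcases ha with ha | ha
        · exact Or.inl (by rwa [ha] at e)
        · exact Or.inr (by rw [ha, einv] at e; rw [inv_eq_iff_eq_inv] at e; exact e) }
  have hgN : g ∈ N := Or.inr hg
  set C := centralizer ({x} : Set G) with hC
  have hmem : ∀ y, y ∈ C ↔ y * x * y⁻¹ = x := fun y => by
    rw [hC, mem_centralizer_singleton_iff, mul_inv_eq_iff_eq_mul]
  have hCN : C ≤ N := fun y hy => Or.inl ((hmem y).mp hy)
  have h2 : C.relIndex N = 2 := by
    rw [relIndex, index_eq_two_iff]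
    refine ⟨⟨g, hgN⟩, fun b => ?_⟩
    simp only [mem_subgroupOf, hmem, Subgroup.coe_mul]
    have e : (b : G) * g * x * ((b : G) * g)⁻¹ = ((b : G) * x * (b : G)⁻¹)⁻¹ := by
      rw [show (b : G) * g * x * ((b : G) * g)⁻¹ = (b : G) * (g * x * g⁻¹) * (b : G)⁻¹ by group, hg]
      group
    rw [e]
    rcases b.2 with hb | hb
    · exact Or.inr ⟨hb, by rw [hb]; exact hne⟩
    · exact Or.inl ⟨by rw [hb, inv_inv], by rw [hb]; exact hne⟩
  have hSC : (S : Subgroup G) ≤ C := fun s hs =>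
    mem_centralizer_singleton_iff.mpr (mem_centralizer_iff.mp hS s hs)
  have h3 : 2 ∣ (S : Subgroup G).index :=
    (Dvd.intro _ (by rw [← h2, relIndex_mul_index hCN])).trans (index_dvd_of_le hSC)
  exact S.not_dvd_index h3

end Cfsg.Agent.RealCentral
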