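import Cfsg.Agent.Lib.PCore.HallHigman
import Cfsg.Agent.Lib.Solvable.Basic
import Cfsg.Agent.Lib.PGroup.UniqueOrderP
import Cfsg.Prelude.Def_CaseTheorems
import Mathlib.GroupTheory.Transfer
import Mathlib.GroupTheory.SpecificGroups.Quaternion

set_option autoImplicit false
set_option linter.style.haveILetI false

/-!
# Solvable ambivalent groups with one class of involutions
-/

namespace Cfsg.Agent.Ambivalent

open Cfsg

universe u

variable {G : Type u} [Group G] [Finite G]

/-- A real element of a group of odd order is trivial. -/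
theorem eq_one_of_real {y g : G} (hy : Odd (orderOf y)) (hg : Odd (orderOf g))
    (h : g * y * g⁻¹ = y⁻¹) : y = 1 := by
  have h2 : Commute (g ^ 2) y := by
    show g ^ 2 * y = y * g ^ 2
    have e : g * (g * y * g⁻¹) * g⁻¹ = y := by
      rw [h]
      calc g * y⁻¹ * g⁻¹ = (g * y * g⁻¹)⁻¹ := by group
        _ = y := by rw [h, inv_inv]
    calc g ^ 2 * y = g * (g * y * g⁻¹) * g⁻¹ * g ^ 2 := by rw [pow_two]; group
      _ = y * g ^ 2 := by rw [e]
  obtain ⟨m, hm⟩ := hg
  have hgy : Commute g y := by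
    have : g = (g ^ 2) ^ (m + 1) := by
      rw [← pow_mul, show 2 * (m + 1) = orderOf g + 1 by omega, pow_add, pow_orderOf_eq_one, one_mul,
        pow_one]
    rw [this]; exact h2.pow_left _
  rw [hgy.eq, mul_inv_cancel_right] at h
  have h1 : y ^ 2 = 1 := by rw [pow_two, ← mul_inv_cancel y]; exact congrArg (y * ·) h
  obtain ⟨k, hk⟩ := hy
  have := pow_orderOf_eq_one y
  rw [hk, pow_add, pow_mul, h1, one_pow, one_mul, pow_one] at this
  exact this

/-- A homomorphic image of an ambivalent group is ambivalent. -/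
theorem amb_map {H : Type u} [Group H] (f : G →* H) (hf : Function.Surjective f)
    (h : ∀ x : G, IsConj x x⁻¹) : ∀ x : H, IsConj x x⁻¹ := fun x => by
  obtain ⟨y, rfl⟩ := hf x
  rw [← map_inv]
  exact f.map_isConj (h y)

/-- An ambivalent group of odd order is trivial. -/
theorem subsingleton_of_odd (h : ∀ x : G, IsConj x x⁻¹) (ho : Odd (Nat.card G)) : Subsingleton G := by
  refine subsingleton_iff.2 fun x y => ?_
  have : ∀ z : G, z = 1 := fun z => by
    obtain ⟨g, hg⟩ := isConj_iff.1 (h z)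
    exact eq_one_of_real (Odd.of_dvd_nat ho (orderOf_dvd_natCard z)) (Odd.of_dvd_nat ho (orderOf_dvd_natCard g)) hg
  rw [this x, this y]

/-- Lift of a `2`-element modulo an odd normal subgroup. -/
theorem exists_lift {N : Subgroup G} [N.Normal] (hN : Odd (Nat.card N)) (x : G ⧸ N) {k : ℕ}
    (hk : k ≤ 3) (hx : orderOf x = 2 ^ k) : ∃ y : G, QuotientGroup.mk' N y = x ∧ orderOf y = 2 ^ k := by
  obtain ⟨g, rfl⟩ := QuotientGroup.mk'_surjective N x
  have hmem : g ^ 2 ^ k ∈ N := by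
    rw [← QuotientGroup.eq_one_iff, ← QuotientGroup.mk'_apply, map_pow, ← hx, pow_orderOf_eq_one]
  let m := orderOf (g ^ 2 ^ k)
  have hm : Odd m := Odd.of_dvd_nat hN (by
    have := orderOf_dvd_natCard (⟨g ^ 2 ^ k, hmem⟩ : N)
    rwa [Subgroup.orderOf_mk] at this)
  have himg : QuotientGroup.mk' N (g ^ (m * m)) = QuotientGroup.mk' N g := by
    rw [map_pow, ← pow_mod_orderOf, hx]
    have h1 : m * m % 2 ^ k = 1 % 2 ^ k := by
      have h8 : m * m % 8 = 1 := by
        obtain ⟨j, hj⟩ := hm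
        rw [hj]
        have h2 : (j * (j + 1)) % 2 = 0 := Nat.even_iff.1 (Nat.even_mul_succ_self j)
        rw [show (2 * j + 1) * (2 * j + 1) = 4 * (j * (j + 1)) + 1 by ring]
        omega
      interval_cases k <;> omega
    rw [h1, ← hx, pow_mod_orderOf, pow_one]
  refine ⟨g ^ (m * m), himg, Nat.dvd_antisymm ?_ ?_⟩
  · refine orderOf_dvd_of_pow_eq_one ?_
    rw [← pow_mul, show m * m * 2 ^ k = 2 ^ k * m * m by ring, pow_mul, pow_mul, pow_orderOf_eq_one,
      one_pow]
  · rw [← hx, ← himg]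
    exact orderOf_map_dvd _ _

set_option maxHeartbeats 1000000 in
/-- If `G` is solvable, ambivalent, `O(G) = 1` and the involutions form one class, there is at most
one involution. -/
theorem unique_involution [Group.IsSolvable G] (hamb : ∀ x : G, IsConj x x⁻¹)
    (hone : ∀ s t : G, orderOf s = 2 → orderOf t = 2 → IsConj s t) (hO : oddCore G = ⊥) :
    ∀ s t : G, orderOf s = 2 → orderOf t = 2 → s = t := by
  classical
  intro s t hs ht
  by_contra hst
  have hT : (⊤ : Subgroup G) ≠ ⊥ := fun e => by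
    have : s ∈ (⊥ : Subgroup G) := e ▸ Subgroup.mem_top s
    rw [Subgroup.mem_bot.1 this, orderOf_one] at hs
    exact absurd hs (by norm_num)
  obtain ⟨N, hNn, -, hN1, hNmin⟩ := Solvable.exists_minimal_normal (K := (⊤ : Subgroup G)) hT
  haveI := hNn
  haveI hNc : IsMulCommutative N := Solvable.isMulCommutative_of_minimal inferInstance hN1 hNmin
  obtain ⟨p, hp, hpx, hpN⟩ := Solvable.exists_prime_of_minimal hN1 hNmin
  haveI := Fact.mk hp
  obtain rfl : p = 2 := by
    by_contra hp2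
    obtain ⟨k, hk⟩ := IsPGroup.iff_card.1 hpN
    refine hN1 (le_bot_iff.1 (hO ▸ PCore.le_oddCore ?_))
    rw [hk]
    exact (hp.odd_of_ne_two hp2).pow
  have hord : ∀ x ∈ N, x ≠ 1 → orderOf x = 2 := fun x hx h1 => orderOf_eq_prime (hpx x hx) h1
  -- all involutions lie in `N`
  obtain ⟨e, he, he1⟩ := N.bot_or_exists_ne_one.resolve_left hN1
  have hinN : ∀ i : G, orderOf i = 2 → i ∈ N := fun i hi => by
    obtain ⟨g, rfl⟩ := isConj_iff.1 (hone e i (hord e he he1) hi)
    exact hNn.conj_mem e he g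
  let φ : G →* MulAut N := MulAut.conjNormal
  have htrans : ∀ v w : N, v ≠ 1 → w ≠ 1 → ∃ g : G, φ g v = w := fun v w hv hw => by
    obtain ⟨g, hg⟩ := isConj_iff.1 (hone v w (hord v v.2 fun h => hv (Subtype.ext h))
      (hord w w.2 fun h => hw (Subtype.ext h)))
    exact ⟨g, Subtype.ext hg⟩
  let H := φ.range
  haveI : Group.IsSolvable H := Group.isSolvable_of_surjective φ.rangeRestrict_surjective
  have hH : (⊤ : Subgroup H) ≠ ⊥ := by
    intro e'
    obtain ⟨g, hg⟩ := htrans ⟨s, hinN s hs⟩ ⟨t, hinN t ht⟩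
      (fun h => by rw [show s = 1 from congrArg Subtype.val h, orderOf_one] at hs; exact absurd hs (by norm_num))
      (fun h => by rw [show t = 1 from congrArg Subtype.val h, orderOf_one] at ht; exact absurd ht (by norm_num))
    have : (⟨φ g, g, rfl⟩ : H) ∈ (⊥ : Subgroup H) := e' ▸ Subgroup.mem_top _
    have h1 : φ g = 1 := congrArg Subtype.val (Subgroup.mem_bot.1 this)
    rw [h1] at hg
    exact hst (congrArg Subtype.val hg)
  obtain ⟨A₀, r, hA₀n, -, hA₀, -, hAc, hr, hrA⟩ :=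
    Solvable.exists_abelian_minimal_normal (G := H) (K := ⊤) inferInstance hH
  haveI := Fact.mk hr
  let A : Subgroup (MulAut N) := A₀.map H.subtype
  have hAconj : ∀ g : G, ∀ a ∈ A, φ g * a * (φ g)⁻¹ ∈ A := by
    rintro g _ ⟨a, ha, rfl⟩
    exact ⟨⟨φ g, g, rfl⟩ * a * (⟨φ g, g, rfl⟩ : H)⁻¹, hA₀n.conj_mem a ha _, rfl⟩
  have hAr : IsPGroup r A := hrA.map _
  have hAcomm : ∀ a ∈ A, ∀ b ∈ A, a * b = b * a := by
    rintro _ ⟨a, ha, rfl⟩ _ ⟨b, hb, rfl⟩
    rw [← map_mul, ← map_mul]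
    exact congrArg _ (congrArg Subtype.val (hAc.1.1 ⟨a, ha⟩ ⟨b, hb⟩))
  have hA1 : A ≠ ⊥ := fun h => hA₀ ((Subgroup.map_eq_bot_iff_of_injective _ H.subtype_injective).1 h)
  obtain ⟨a, ha, ha1⟩ := A.bot_or_exists_ne_one.resolve_left hA1
  by_cases hr2 : r = 2
  · subst hr2
    obtain ⟨k, hk⟩ := IsPGroup.iff_card.1 hpN
    have hk0 : k ≠ 0 := fun h => hN1 (Subgroup.card_eq_one.1 (by rw [hk, h, pow_zero]))
    obtain ⟨v, hv, hv1⟩ := hAr.exists_fixed_point_of_prime_dvd_card_of_fixed_point N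
      (hk ▸ dvd_pow_self 2 hk0) (a := (1 : N)) (fun x => map_one (x : MulAut N))
    refine ha1 (MulEquiv.ext fun w => ?_)
    rcases eq_or_ne w 1 with rfl | hw
    · exact map_one a
    obtain ⟨g, rfl⟩ := htrans v w (Ne.symm hv1) hw
    have h2 : ((φ g)⁻¹ * a * φ g) v = v := by
      have := hAconj g⁻¹ a ha
      rw [map_inv, inv_inv] at this
      exact hv ⟨_, this⟩
    have h3 := congrArg (φ g) h2
    simpa [MulAut.mul_apply] using h3
  -- every nontrivial element of `A` is fixed-point-free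
  let S : N → Set (MulAut N) := fun v => {b | b ∈ A ∧ b v = v}
  have hScard : ∀ v w : N, v ≠ 1 → w ≠ 1 → S v ⊆ S w → S v = S w := by
    intro v w hv hw hsub
    obtain ⟨g, hg⟩ := htrans w v hw hv
    refine Set.eq_of_subset_of_ncard_le hsub ?_ (Set.toFinite _)
    refine Set.ncard_le_ncard_of_injOn (fun b => φ g * b * (φ g)⁻¹) ?_ ?_ (Set.toFinite _)
    · rintro b ⟨hb, hbw⟩
      refine ⟨hAconj g b hb, ?_⟩
      rw [← hg]
      simp [MulAut.mul_apply, hbw]
    · intro b _ c _ h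
      simpa using h
  have hS : ∀ v w : N, v ≠ 1 → w ≠ 1 → S v ⊆ S w := by
    intro v w hv hw b hb
    by_contra hbw
    have hne : S v ≠ S w := fun h => hbw (h ▸ hb)
    have hx : v * w ≠ 1 := fun h => hne (by
      have hvv : v * v = 1 := Subtype.ext (by rw [← pow_two]; exact hpx v v.2)
      rw [mul_left_cancel (hvv.trans h.symm)])
    -- `S v ≠ S (v * w) ≠ S w`
    have hxv : S (v * w) ≠ S v := fun h => by
      have h1 : S v ⊆ S w := fun c hc => ⟨hc.1, by
        have h2 : c (v * w) = v * w := (h ▸ hc : c ∈ S (v * w)).2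
        rw [map_mul, hc.2] at h2
        exact mul_left_cancel h2⟩
      exact hne (hScard v w hv hw h1)
    have hxw : S (v * w) ≠ S w := fun h => by
      have h1 : S w ⊆ S v := fun c hc => ⟨hc.1, by
        have h2 : c (v * w) = v * w := (h ▸ hc : c ∈ S (v * w)).2
        rw [map_mul, hc.2] at h2
        exact mul_right_cancel h2⟩
      exact hne (hScard w v hw hv h1).symm
    -- `z = b (v w) (v w)⁻¹ = b w w⁻¹` is fixed by both stabilisers
    let z : N := b w * w⁻¹
    have hz1 : z ≠ 1 := fun h => hbw ⟨hb.1, mul_inv_eq_one.1 h⟩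
    have hze : z = b (v * w) * (v * w)⁻¹ := by
      show b w * w⁻¹ = _
      rw [map_mul, hb.2, mul_inv_rev, mul_comm' v (b w), mul_assoc (b w) v, mul_comm' w⁻¹ v⁻¹, mul_inv_cancel_left]
    have hzw : S w ⊆ S z := fun c hc => ⟨hc.1, by
      show c (b w * w⁻¹) = _
      rw [map_mul, map_inv, hc.2, ← MulAut.mul_apply, hAcomm c hc.1 b hb.1, MulAut.mul_apply, hc.2]⟩
    have hzx : S (v * w) ⊆ S z := fun c hc => ⟨hc.1, by
      rw [hze, map_mul, map_inv, hc.2, ← MulAut.mul_apply, hAcomm c hc.1 b hb.1, MulAut.mul_apply, hc.2]⟩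
    exact hxw ((hScard _ _ hx hz1 hzx).trans (hScard _ _ hw hz1 hzw).symm)
  have hfpf : ∀ b ∈ A, ∀ v : N, v ≠ 1 → b v = v → b = 1 := fun b hb v hv hbv => MulEquiv.ext fun w => by
    rcases eq_or_ne w 1 with rfl | hw
    · exact map_one b
    · exact (hS v w hv hw ⟨hb, hbv⟩).2
  -- an odd order lift of `a`
  have hodd : Odd (orderOf a) := by
    obtain ⟨j, hj⟩ := IsPGroup.iff_orderOf.1 hAr ⟨a, ha⟩
    rw [Subgroup.orderOf_mk] at hj
    rw [hj]
    exact (hr.odd_of_ne_two hr2).pow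
  obtain ⟨g, hg⟩ : ∃ g, φ g = a := by
    obtain ⟨⟨_, g, rfl⟩, -, rfl⟩ := ha
    exact ⟨g, rfl⟩
  obtain ⟨k, m, hm, hgm⟩ :=
    Nat.exists_eq_pow_mul_and_not_dvd (orderOf_pos g).ne' 2 (by norm_num : (2 : ℕ) ≠ 1)
  have hg0odd : Odd (orderOf (g ^ 2 ^ k)) := Odd.of_dvd_nat (Nat.odd_iff.2 (by omega : m % 2 = 1))
    (orderOf_dvd_of_pow_eq_one (by rw [← pow_mul, ← hgm, pow_orderOf_eq_one]))
  set g₀ := g ^ 2 ^ k
  have hA0 : φ g₀ ∈ A := by rw [map_pow, hg]; exact pow_mem ha _
  have hφ0 : φ g₀ ≠ 1 := fun h => by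
    rw [map_pow, hg] at h
    have hd := orderOf_dvd_of_pow_eq_one h
    have hco : (2 ^ k).Coprime (orderOf a) := (Nat.coprime_two_left.2 hodd).pow_left _
    exact ha1 (orderOf_eq_one_iff.1 (Nat.eq_one_of_dvd_coprimes hco hd dvd_rfl))
  obtain ⟨u, hu⟩ := isConj_iff.1 (hamb g₀)
  obtain ⟨j, m', hm', hum⟩ :=
    Nat.exists_eq_pow_mul_and_not_dvd (orderOf_pos u).ne' 2 (by norm_num : (2 : ℕ) ≠ 1)
  have hinv : ∀ i : ℕ, u ^ (2 * i + 1) * g₀ * (u ^ (2 * i + 1))⁻¹ = g₀⁻¹ := by
    intro i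
    induction i with
    | zero => simpa using hu
    | succ i ih =>
      rw [show 2 * (i + 1) + 1 = 1 + 1 + (2 * i + 1) by ring, pow_add, pow_add, pow_one]
      calc u * u * u ^ (2 * i + 1) * g₀ * (u * u * u ^ (2 * i + 1))⁻¹
          = u * (u * (u ^ (2 * i + 1) * g₀ * (u ^ (2 * i + 1))⁻¹) * u⁻¹) * u⁻¹ := by group
        _ = u * (u * g₀⁻¹ * u⁻¹) * u⁻¹ := by rw [ih]
        _ = u * (u * g₀ * u⁻¹)⁻¹ * u⁻¹ := by group
        _ = g₀⁻¹ := by rw [hu, inv_inv, hu]
  obtain ⟨i, rfl⟩ : Odd m' := Nat.odd_iff.2 (by omega)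
  have hx := hinv i
  set x := u ^ (2 * i + 1) with hx'
  have hxord : orderOf x = 2 ^ j := by
    rw [hx', orderOf_pow, hum, Nat.gcd_eq_right (dvd_mul_left _ _), Nat.mul_div_cancel _ (by omega)]
  rcases j with _ | _ | j
  · rw [pow_zero, orderOf_eq_one_iff] at hxord
    rw [hxord, inv_one, mul_one, one_mul] at hx
    exact hφ0 (by rw [eq_one_of_real hg0odd (g := 1) (by simp) (by simpa using hx), map_one])
  · -- the inverting element is an involution, so lies in `N`
    have hxN : x ∈ N := hinN x (by simpa using hxord)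
    have hmem : g₀⁻¹ * g₀⁻¹ ∈ N := by
      nth_rw 1 [← hx]
      have h1 : g₀ * x⁻¹ * g₀⁻¹ ∈ N := hNn.conj_mem _ (inv_mem hxN) _
      have := mul_mem hxN h1
      simpa [mul_assoc] using this
    have h1 : φ (g₀⁻¹ * g₀⁻¹) = 1 := MulEquiv.ext fun w => Subtype.ext (by
      show g₀⁻¹ * g₀⁻¹ * (w : G) * (g₀⁻¹ * g₀⁻¹)⁻¹ = w
      have := congrArg Subtype.val (mul_comm' (⟨_, hmem⟩ : N) w)
      simp only [Subgroup.coe_mul] at this
      rw [this, mul_inv_cancel_right])
    rw [map_mul, map_inv, ← mul_inv_rev, inv_eq_one, ← pow_two] at h1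
    have hd := orderOf_dvd_of_pow_eq_one h1
    have ho : Odd (orderOf (φ g₀)) := Odd.of_dvd_nat hg0odd (orderOf_map_dvd φ g₀)
    exact hφ0 (orderOf_eq_one_iff.1
      (Nat.eq_one_of_dvd_coprimes (Nat.coprime_two_left.2 ho) hd dvd_rfl))
  · -- its square centralises `g₀`, so `g₀` fixes an involution
    have hy : orderOf (x ^ 2 ^ (j + 1)) = 2 := by
      rw [orderOf_pow, hxord, Nat.gcd_eq_right (pow_dvd_pow 2 (by omega)), Nat.pow_div (by omega) (by norm_num),
        show j + 1 + 1 - (j + 1) = 1 by omega, pow_one]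
    have hc : Commute (x ^ 2) g₀ := by
      show x ^ 2 * g₀ = g₀ * x ^ 2
      calc x ^ 2 * g₀ = x * (x * g₀ * x⁻¹) * x := by rw [pow_two]; group
        _ = x * g₀⁻¹ * x := by rw [hx]
        _ = (x * g₀ * x⁻¹)⁻¹ * x ^ 2 := by rw [pow_two]; group
        _ = g₀ * x ^ 2 := by rw [hx, inv_inv]
    have hc2 : Commute g₀ (x ^ 2 ^ (j + 1)) := by
      rw [pow_succ' 2 j, pow_mul]
      exact (hc.pow_left _).symm
    refine hφ0 (hfpf _ hA0 ⟨_, hinN _ hy⟩ (fun h => by
      rw [show x ^ 2 ^ (j + 1) = 1 from congrArg Subtype.val h, orderOf_one] at hy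
      exact absurd hy (by norm_num)) (Subtype.ext ?_))
    show g₀ * x ^ 2 ^ (j + 1) * g₀⁻¹ = x ^ 2 ^ (j + 1)
    rw [hc2.eq, mul_inv_cancel_right]

/-- The Sylow `2`-subgroup is cyclic or generalized quaternion. -/
theorem sylow_two [Group.IsSolvable G] (hamb : ∀ x : G, IsConj x x⁻¹)
    (hone : ∀ s t : G, orderOf s = 2 → orderOf t = 2 → IsConj s t) (S : Sylow 2 G) :
    IsCyclic (S : Subgroup G) ∨
      ∃ n : ℕ, 1 ≤ n ∧ Nonempty ((S : Subgroup G) ≃* QuaternionGroup (2 ^ n)) := by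
  let π := QuotientGroup.mk' (oddCore G)
  have huniq : ∀ s t : S, orderOf s = 2 → orderOf t = 2 → s = t := by
    intro s t hs ht
    have hinj : Function.Injective (π.comp (S : Subgroup G).subtype) := (injective_iff_map_eq_one _).2
      fun x hx => Subtype.ext (by
        have h1 : (x : G) ∈ oddCore G := (QuotientGroup.eq_one_iff _).1 hx
        have := PCore.disjoint_of_isPGroup_of_coprime S.isPGroup' (PCore.coprime_card_pPrimeCore (G := G) (p := 2))
        exact Subgroup.mem_bot.1 (this.le_bot ⟨x.2, h1⟩))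
    refine hinj ?_
    haveI : Group.IsSolvable (G ⧸ oddCore G) := inferInstance
    refine unique_involution (amb_map π (QuotientGroup.mk'_surjective _) hamb) ?_
      PCore.pPrimeCore_quotient_self_eq_bot _ _ ?_ ?_
    · intro a b ha hb
      obtain ⟨a', ha', ha2⟩ := exists_lift PCore.odd_card_oddCore a (k := 1) (by norm_num) (by simpa using ha)
      obtain ⟨b', hb', hb2⟩ := exists_lift PCore.odd_card_oddCore b (k := 1) (by norm_num) (by simpa using hb)
      rw [← ha', ← hb']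
      exact π.map_isConj (hone a' b' (by simpa using ha2) (by simpa using hb2))
    · rw [orderOf_injective _ hinj, hs]
    · rw [orderOf_injective _ hinj, ht]
  have hsub : ∀ H K : Subgroup S, Nat.card H = 2 → Nat.card K = 2 → H = K := by
    intro H K hH hK
    obtain ⟨h, hh⟩ := exists_prime_orderOf_dvd_card' (G := H) 2 (dvd_of_eq hH.symm)
    obtain ⟨k, hk⟩ := exists_prime_orderOf_dvd_card' (G := K) 2 (dvd_of_eq hK.symm)
    rw [← Subgroup.orderOf_coe] at hh hk
    have eH : Subgroup.zpowers (h : S) = H := Subgroup.eq_of_le_of_card_ge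
      (Subgroup.zpowers_le.2 h.2) (by rw [Nat.card_zpowers, hh, hH])
    have eK : Subgroup.zpowers (k : S) = K := Subgroup.eq_of_le_of_card_ge
      (Subgroup.zpowers_le.2 k.2) (by rw [Nat.card_zpowers, hk, hK])
    rw [← eH, ← eK, huniq _ _ hh hk]
  rcases PGroup.cyclic_or_quaternion_of_unique S.isPGroup' hsub with h | ⟨-, n, hn, -, he⟩
  · exact Or.inl h
  · exact Or.inr ⟨n, hn, he⟩

/-- A cyclic Sylow `2`-subgroup of an ambivalent group of even order has order `2`. -/
theorem card_two_of_cyclic (hamb : ∀ x : G, IsConj x x⁻¹) (heven : 2 ∣ Nat.card G) (S : Sylow 2 G)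
    (hcyc : IsCyclic (S : Subgroup G)) : Nat.card (S : Subgroup G) = 2 := by
  have hp : (Nat.card G).minFac = 2 := (Nat.minFac_eq_two_iff _).2 heven
  have hc := IsCyclic.isComplement' hp hcyc
  set K := (MonoidHom.transferSylow S (IsCyclic.normalizer_le_centralizer hp hcyc)).ker
  have hsq : ∀ x : (S : Subgroup G), x ^ 2 = 1 := fun x => by
    obtain ⟨g, hg⟩ := isConj_iff.1 (hamb (x : G))
    let f := MonoidHom.transferSylow S (IsCyclic.normalizer_le_centralizer hp hcyc)
    have hcomm : f ((x : G) ^ 2) = 1 := by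
      letI : CommGroup (S : Subgroup G) := IsCyclic.commGroup
      have h1 := congrArg f hg
      rw [map_mul, map_mul, map_inv, map_inv, mul_comm (f g), mul_inv_cancel_right] at h1
      rw [map_pow, pow_two]
      exact mul_eq_one_iff_eq_inv.2 h1
    have hmem : ((x : G) ^ 2) ∈ K ⊓ (S : Subgroup G) := ⟨hcomm, pow_mem x.2 2⟩
    rw [disjoint_iff.1 hc.disjoint] at hmem
    exact Subtype.ext (by simpa using hmem)
  obtain ⟨x, hx⟩ := hcyc.exists_generator
  have hd : Nat.card (S : Subgroup G) ∣ 2 := by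
    have : Subgroup.zpowers x = ⊤ := eq_top_iff.2 fun y _ => hx y
    rw [← Subgroup.card_top, ← this, Nat.card_zpowers]
    exact orderOf_dvd_of_pow_eq_one (hsq x)
  refine ((Nat.dvd_prime Nat.prime_two).1 hd).resolve_left fun h1 => ?_
  obtain ⟨k, hk⟩ := exists_prime_orderOf_dvd_card' (G := (S : Subgroup G)) 2 (by
    exact S.dvd_card_of_dvd_card heven)
  exact absurd ((orderOf_dvd_natCard k).trans (dvd_of_eq h1)) (by rw [hk]; norm_num)

/-- Structure when the Sylow `2`-subgroup has order `2`. -/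
theorem structure_of_card_two (hamb : ∀ x : G, IsConj x x⁻¹) (S : Sylow 2 G)
    (h2 : Nat.card (S : Subgroup G) = 2) :
    (S : Subgroup G).IsComplement' (oddCore G) ∧ oddCore G = commutator G ∧
      ∀ t : G, t ∈ S → t ≠ 1 → ∀ x : G, x ∈ oddCore G → t * x * t⁻¹ = x⁻¹ := by
  have heven : 2 ∣ Nat.card G := h2 ▸ (S : Subgroup G).card_subgroup_dvd_card
  have hp : (Nat.card G).minFac = 2 := (Nat.minFac_eq_two_iff _).2 heven
  haveI hcyc : IsCyclic (S : Subgroup G) := isCyclic_of_prime_card h2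
  have hc := IsCyclic.isComplement' hp hcyc
  set K := (MonoidHom.transferSylow S (IsCyclic.normalizer_le_centralizer hp hcyc)).ker
  have hKodd : Odd (Nat.card K) := by
    have := hc.index_eq_card
    rw [Nat.odd_iff, ← this]
    exact Nat.two_dvd_ne_zero.1 S.not_dvd_index
  have hOK : oddCore G = K := by
    refine (Subgroup.eq_of_le_of_card_ge (PCore.le_oddCore hKodd) ?_).symm
    have hco : (Nat.card (oddCore G)).Coprime (Nat.card (S : Subgroup G)) := by
      rw [h2]; exact PCore.coprime_card_pPrimeCore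
    refine Nat.le_of_dvd Nat.card_pos (hco.dvd_of_dvd_mul_right ?_)
    rw [hc.card_mul]
    exact Subgroup.card_subgroup_dvd_card _
  have hOS : (oddCore G).IsComplement' (S : Subgroup G) := hOK ▸ hc
  refine ⟨hOS.symm, ?_⟩
  have hinv : ∀ t : G, t ∈ S → t ≠ 1 → ∀ x : G, x ∈ oddCore G →
      t * x * t⁻¹ = x⁻¹ ∧ x ∈ commutator G := by
    intro t ht ht1 x hx
    have hS : ∀ y ∈ (S : Subgroup G), y = 1 ∨ y = t := by
      intro y hy
      by_contra hy'
      push Not at hy'
      have hcl : ({⟨1, one_mem _⟩, ⟨t, ht⟩, ⟨y, hy⟩} : Set (S : Subgroup G)).ncard ≤ 2 := by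
        have h := Set.ncard_le_ncard (Set.subset_univ ({⟨1, one_mem _⟩, ⟨t, ht⟩, ⟨y, hy⟩} : Set (S : Subgroup G)))
        rwa [Set.ncard_univ, h2] at h
      rw [Set.ncard_eq_three.2 ⟨_, _, _, by simp [Subtype.ext_iff, ht1.symm],
        by simp [Subtype.ext_iff, hy'.1.symm], by simp [Subtype.ext_iff, hy'.2.symm], rfl⟩] at hcl
      omega
    -- `t` is fixed-point-free on the odd core
    have hfpf : ∀ y ∈ oddCore G, t * y = y * t → y = 1 := by
      intro y hy hty
      obtain ⟨g, hg⟩ := isConj_iff.1 (hamb y)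
      obtain ⟨⟨k, s⟩, hks, -⟩ := hOS.existsUnique g
      simp only at hks
      have hk : (k : G) * y * (k : G)⁻¹ = y⁻¹ := by
        rcases hS s s.2 with e | e
        · rw [← hks, e, mul_one] at hg; exact hg
        · rw [← hks, e] at hg
          rw [← hg]
          calc (k : G) * y * (k : G)⁻¹ = k * (y * t) * t⁻¹ * (k : G)⁻¹ := by group
            _ = k * (t * y) * t⁻¹ * (k : G)⁻¹ := by rw [hty]
            _ = k * t * y * (k * t)⁻¹ := by group
      exact eq_one_of_real (Odd.of_dvd_nat PCore.odd_card_oddCore (Subgroup.orderOf_dvd_natCard _ hy))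
        (Odd.of_dvd_nat PCore.odd_card_oddCore (Subgroup.orderOf_dvd_natCard _ k.2)) hk
    let f : oddCore G → oddCore G := fun y =>
      ⟨(y : G)⁻¹ * (t * y * t⁻¹), mul_mem (inv_mem y.2) (PCore.oddCore_normal.conj_mem _ y.2 t)⟩
    have hf : Function.Injective f := by
      intro y z h
      have h' : (y : G)⁻¹ * (t * y * t⁻¹) = (z : G)⁻¹ * (t * z * t⁻¹) := congrArg Subtype.val h
      refine Subtype.ext (mul_inv_eq_one.1 (hfpf _ (mul_mem z.2 (inv_mem y.2)) ?_)).symm
      calc t * ((z : G) * (y : G)⁻¹) = z * ((z : G)⁻¹ * (t * z * t⁻¹)) * (t * (y : G)⁻¹ * t⁻¹) * t := by group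
        _ = z * ((y : G)⁻¹ * (t * y * t⁻¹)) * (t * (y : G)⁻¹ * t⁻¹) * t := by rw [h']
        _ = z * (y : G)⁻¹ * t := by group
    obtain ⟨y, hy⟩ := (Finite.injective_iff_surjective.1 hf) ⟨x, hx⟩
    have hy' : (y : G)⁻¹ * (t * y * t⁻¹) = x := congrArg Subtype.val hy
    have ht2 : t * t = 1 := by
      have := orderOf_dvd_natCard (⟨t, ht⟩ : (S : Subgroup G))
      rw [h2, orderOf_dvd_iff_pow_eq_one, pow_two] at this
      exact congrArg Subtype.val this
    have hti : t⁻¹ = t := inv_eq_of_mul_eq_one_right ht2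
    constructor
    · rw [← hy']
      calc t * ((y : G)⁻¹ * (t * y * t⁻¹)) * t⁻¹ = t * (y : G)⁻¹ * t⁻¹ * (t * t) * y * (t * t)⁻¹ := by
            group
        _ = t * (y : G)⁻¹ * t⁻¹ * y := by rw [ht2]; group
        _ = ((y : G)⁻¹ * (t * y * t⁻¹))⁻¹ := by group
    · rw [← hy', commutator_def]
      have := Subgroup.commutator_mem_commutator (Subgroup.mem_top ((y : G)⁻¹)) (Subgroup.mem_top t)
      rw [commutatorElement_def, inv_inv] at this
      simpa [mul_assoc] using this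
  refine ⟨le_antisymm (fun x hx => ?_) ?_, fun t ht ht1 x hx => (hinv t ht ht1 x hx).1⟩
  · obtain ⟨t, ht, ht1⟩ := (S : Subgroup G).bot_or_exists_ne_one.resolve_left fun e => by
      rw [e, Subgroup.card_bot] at h2; omega
    exact (hinv t ht ht1 x hx).2
  · rw [hOK]
    letI : CommGroup (S : Subgroup G) := IsCyclic.commGroup
    exact Abelianization.commutator_subset_ker _

end Cfsg.Agent.Ambivalent
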